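import Mathlib
import Cfsg.Prelude.Def_Local
import Cfsg.Agent.S1754
import Cfsg.Agent.OddHalf.UQ4
import Cfsg.Agent.Lib.Cores
set_option linter.all false

/-!
# Standard subgroups whose centralizer has cyclic Sylow 2-subgroups: no hypothesis on odd cores

* `central_of_isolated` : in a group with `O(G) = 1` an involution commuting with no other conjugate is central;
* `normal_of_isolated` : so a standard subgroup centralized by such an involution is normal;
* `odd_commutator` : the commutator subgroup of a group with cyclic Sylow 2-subgroups has odd order;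
* `eq_of_central` : a central involution of such a group is its only involution.
-/

set_option autoImplicit false

namespace Cfsg.Agent.H297.Frame

open Subgroup Cfsg

variable {G : Type*} [Group G]

/-- An involution which commutes with no other conjugate is central, if `O(G) = 1`. -/
theorem central_of_isolated [Finite G] (hO : oddCore G = ⊥) {z : G} (hz1 : z ≠ 1) (hzz : z * z = 1)
    (h : ∀ g : G, (g * z * g⁻¹) * z = z * (g * z * g⁻¹) → g * z * g⁻¹ = z) (g : G) : g * z = z * g := by
  rcases Cfsg.Agent.OddHalf.UQ4.zstar hz1 hzz with ⟨g, h1, h2⟩ | ⟨N, hN, hodd, hc⟩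
  · exact absurd (h g h2) h1
  · have h1 : N ≤ oddCore G :=
      Cfsg.Agent.Lib.Cores.le_pPrimeCore hN (Nat.coprime_two_right.2 hodd)
    rw [hO, le_bot_iff] at h1
    have h2 := hc g
    rw [h1, mem_bot, mul_inv_eq_one, mul_inv_eq_iff_eq_mul] at h2
    exact h2.symm

/-- A standard subgroup centralized by an involution which commutes with no other conjugate is normal. -/
theorem normal_of_isolated [Finite G] (hO : oddCore G = ⊥) {A : Subgroup G} (hA : IsStandardSubgroup A)
    {z : G} (hz1 : z ≠ 1) (hzz : z * z = 1) (hzA : z ∈ centralizer (A : Set G))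
    (h : ∀ g : G, (g * z * g⁻¹) * z = z * (g * z * g⁻¹) → g * z * g⁻¹ = z) : A.Normal := by
  have hc := central_of_isolated hO hz1 hzz h
  have : Fact (Nat.Prime 2) := ⟨Nat.prime_two⟩
  have hle := (Cfsg.Agent.S1754.result A hA z (orderOf_eq_prime (by rw [pow_two, hzz]) hz1) hzA).1
  rw [← Subgroup.normalizer_eq_top_iff, eq_top_iff]
  intro g _
  exact hle (mem_centralizer_singleton_iff.2 (hc g))

/-- Cyclic Sylow 2-subgroups: a normal subgroup of odd order containing the commutators. -/
theorem exists_odd [Finite G] (hR : ∀ R : Sylow 2 G, IsCyclic ↥(R : Subgroup G)) :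
    ∃ N : Subgroup G, N.Normal ∧ Odd (Nat.card N) ∧ commutator G ≤ N := by
  have h2 : Fact (Nat.Prime 2) := ⟨Nat.prime_two⟩
  rcases Nat.even_or_odd (Nat.card G) with he | ho
  · have hmin : (Nat.card G).minFac = 2 := (Nat.minFac_eq_two_iff _).2 (even_iff_two_dvd.1 he)
    obtain ⟨P⟩ : Nonempty (Sylow 2 G) := inferInstance
    have hP := hR P
    have hn := IsCyclic.normalizer_le_centralizer (G := G) hmin hP
    refine ⟨(MonoidHom.transferSylow P hn).ker, inferInstance, ?_, ?_⟩
    · rw [← Nat.not_even_iff_odd, even_iff_two_dvd]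
      exact MonoidHom.not_dvd_card_ker_transferSylow P hn
    · have : IsMulCommutative ↥(P : Subgroup G) := hP.isMulCommutative
      rw [_root_.commutator_def, Subgroup.commutator_le]
      intro a _ b _
      rw [MonoidHom.mem_ker, map_commutatorElement, commutatorElement_eq_one_iff_mul_comm]
      exact this.is_comm.comm _ _
  · exact ⟨⊤, inferInstance, by rwa [card_top], le_top⟩

theorem odd_commutator [Finite G] (hR : ∀ R : Sylow 2 G, IsCyclic ↥(R : Subgroup G)) :
    Odd (Nat.card (commutator G)) := by
  obtain ⟨N, -, h1, h2⟩ := exists_odd hR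
  exact h1.of_dvd_nat (card_dvd_of_le h2)

/-- A central involution is the only involution, if the Sylow 2-subgroups are cyclic. -/
theorem eq_of_central [Finite G] (hR : ∀ R : Sylow 2 G, IsCyclic ↥(R : Subgroup G)) {z r : G}
    (hz : ∀ g : G, g * z = z * g) (hzz : z * z = 1) (hz1 : z ≠ 1) (hrr : r * r = 1) (hr1 : r ≠ 1) : r = z := by
  have h2 : Fact (Nat.Prime 2) := ⟨Nat.prime_two⟩
  -- the four-group
  let E : Subgroup G :=
    { carrier := {x | x = 1 ∨ x = z ∨ x = r ∨ x = z * r}
      one_mem' := Or.inl rfl
      mul_mem' := by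
        have hrz := hz r
        have e1 : z * (z * r) = r := by rw [← mul_assoc, hzz, one_mul]
        have e2 : r * (z * r) = z := by rw [← mul_assoc, hrz, mul_assoc, hrr, mul_one]
        have e3 : z * r * z = r := by rw [mul_assoc, hrz, ← mul_assoc, hzz, one_mul]
        have e4 : z * r * r = z := by rw [mul_assoc, hrr, mul_one]
        have e5 : z * r * (z * r) = 1 := by rw [← mul_assoc, e3, hrr]
        rintro a b (rfl | rfl | rfl | rfl) (rfl | rfl | rfl | rfl) <;>
          simp [hzz, hrr, e1, e2, e3, e4, e5, hrz]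
      inv_mem' := by
        have hzi : z⁻¹ = z := inv_eq_of_mul_eq_one_left hzz
        have hri : r⁻¹ = r := inv_eq_of_mul_eq_one_left hrr
        rintro a (rfl | rfl | rfl | rfl)
        · left; exact inv_one
        · right; left; exact hzi
        · right; right; left; exact hri
        · right; right; right
          rw [mul_inv_rev, hzi, hri, hz] }
  have hE : IsPGroup 2 E := by
    have e5 : z * r * (z * r) = 1 := by
      rw [mul_assoc, ← mul_assoc r, hz r, mul_assoc, hrr, mul_one, hzz]
    rintro ⟨x, hx⟩
    refine ⟨1, Subtype.ext ?_⟩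
    show x ^ 2 ^ 1 = 1
    rw [pow_one, pow_two]
    rcases hx with rfl | rfl | rfl | rfl
    · exact one_mul 1
    · exact hzz
    · exact hrr
    · exact e5
  obtain ⟨P, hP⟩ := hE.exists_le_sylow
  have hc := hR P
  by_contra hne
  classical
  have hfin : Fintype ↥(P : Subgroup G) := Fintype.ofFinite _
  have h3 := IsCyclic.card_pow_eq_one_le (α := ↥(P : Subgroup G)) (n := 2) (by norm_num)
  have hzP : z ∈ (P : Subgroup G) := hP (Or.inr (Or.inl rfl))
  have hrP : r ∈ (P : Subgroup G) := hP (Or.inr (Or.inr (Or.inl rfl)))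
  have h4 : ({1, ⟨z, hzP⟩, ⟨r, hrP⟩} : Finset ↥(P : Subgroup G)).card = 3 := by
    rw [Finset.card_eq_three]
    refine ⟨1, ⟨z, hzP⟩, ⟨r, hrP⟩, ?_, ?_, ?_, rfl⟩
    · intro h; exact hz1 (congrArg Subtype.val h).symm
    · intro h; exact hr1 (congrArg Subtype.val h).symm
    · intro h; exact hne (congrArg Subtype.val h).symm
  have h5 : ({1, ⟨z, hzP⟩, ⟨r, hrP⟩} : Finset ↥(P : Subgroup G)) ⊆
      (Finset.univ.filter fun a : ↥(P : Subgroup G) => a ^ 2 = 1) := by
    intro x hx
    rw [Finset.mem_filter]
    refine ⟨Finset.mem_univ _, ?_⟩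
    rw [Finset.mem_insert, Finset.mem_insert, Finset.mem_singleton] at hx
    rcases hx with rfl | rfl | rfl
    · exact one_pow 2
    · exact Subtype.ext (by show z ^ 2 = 1; rw [pow_two, hzz])
    · exact Subtype.ext (by show r ^ 2 = 1; rw [pow_two, hrr])
  have h6 := Finset.card_le_card h5
  rw [h4] at h6
  have h7 : (Finset.univ.filter fun a : ↥(P : Subgroup G) => a ^ 2 = 1).card ≤ 2 := by
    convert h3
  omega

end Cfsg.Agent.H297.Frame
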